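import Groth.Agent.CommAlgDim.CM
import Mathlib.Algebra.Module.SpanRankOperations
import Mathlib.RingTheory.Length
import Mathlib.LinearAlgebra.Pi
import Mathlib.LinearAlgebra.Finsupp.LinearCombination

/-!
# First Koszul homology of generators of the maximal ideal
-/

set_option backward.isDefEq.respectTransparency false
set_option backward.isDefEq.respectTransparency.types false

universe u

open IsLocalRing

namespace KoszulH1Lib

variable {A : Type u} [CommRing A]

section Defs

variable {ι : Type*} [Fintype ι] [DecidableEq ι]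

/-- Relations. -/
noncomputable def Z (a : ι → A) : Submodule A (ι → A) := LinearMap.ker (Fintype.linearCombination A a)

theorem mem_Z {a : ι → A} {v : ι → A} : v ∈ Z a ↔ ∑ i, v i * a i = 0 := by
  simp [Z, Fintype.linearCombination_apply]

/-- The Koszul relation of a pair. -/
def rel (a : ι → A) (p : ι × ι) : ι → A := Pi.single p.2 (a p.1) - Pi.single p.1 (a p.2)

/-- Koszul relations. -/
def Bd (a : ι → A) : Submodule A (ι → A) := Submodule.span A (Set.range (rel a))

theorem sum_single_mul (a : ι → A) (i : ι) (x : A) : ∑ j, (Pi.single i x : ι → A) j * a j = x * a i := by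
  rw [Finset.sum_eq_single i (fun j _ hj => by rw [Pi.single_eq_of_ne hj, zero_mul]) (fun h => (h (Finset.mem_univ i)).elim),
    Pi.single_eq_same]

theorem Bd_le_Z (a : ι → A) : Bd a ≤ Z a := by
  rw [Bd, Submodule.span_le]
  rintro _ ⟨⟨i, j⟩, rfl⟩
  rw [SetLike.mem_coe, mem_Z]
  simp only [rel, Pi.sub_apply, sub_mul, Finset.sum_sub_distrib, sum_single_mul]
  ring

theorem rel_mem (a : ι → A) (i j : ι) : rel a (i, j) ∈ Bd a := Submodule.subset_span ⟨(i, j), rfl⟩

/-- First Koszul homology. -/
abbrev H (a : ι → A) := ↥(Z a) ⧸ (Bd a).comap (Z a).subtype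

/-- Its length. -/
noncomputable def h (a : ι → A) : ℕ∞ := Module.length A (H a)

theorem h_congr {κ : Type*} [Fintype κ] [DecidableEq κ] (e : ι ≃ κ) (a : κ → A) : h (a ∘ e) = h a := by
  let L : (ι → A) ≃ₗ[A] (κ → A) := LinearEquiv.funCongrLeft A A e.symm
  have hL : ∀ (v : ι → A) (k : κ), L v k = v (e.symm k) := fun v k => rfl
  have hZ : (Z (a ∘ e)).map L.toLinearMap = Z a := by
    ext v
    constructor
    · rintro ⟨w, hw, rfl⟩
      rw [SetLike.mem_coe, mem_Z] at hw
      rw [mem_Z, ← e.sum_comp]
      simpa [hL] using hw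
    · intro hv
      refine ⟨L.symm v, ?_, L.apply_symm_apply v⟩
      rw [SetLike.mem_coe, mem_Z]
      rw [mem_Z, ← e.sum_comp] at hv
      exact hv
  have hB : (Bd (a ∘ e)).map L.toLinearMap = Bd a := by
    have hs : ∀ i x, L (Pi.single i x) = Pi.single (e i) x := fun i x => funext fun k => by
      rw [hL]
      by_cases hk : k = e i
      · subst hk; simp
      · rw [Pi.single_eq_of_ne hk, Pi.single_eq_of_ne (fun h' => hk (by rw [← h', e.apply_symm_apply]))]
    rw [Bd, Submodule.map_span, ← Set.range_comp, Bd]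
    refine congrArg _ (Set.ext fun v => ⟨?_, ?_⟩)
    · rintro ⟨⟨i, j⟩, rfl⟩; exact ⟨(e i, e j), by simp [rel, hs]⟩
    · rintro ⟨⟨i, j⟩, rfl⟩; exact ⟨(e.symm i, e.symm j), by simp [rel, hs]⟩
  let LZ : Z (a ∘ e) ≃ₗ[A] Z a := L.ofSubmodules _ _ hZ
  refine LinearEquiv.length_eq (Submodule.Quotient.equiv _ _ LZ ?_)
  ext v
  constructor
  · rintro ⟨w, hw, rfl⟩
    show L w.1 ∈ Bd a
    rw [← hB]
    exact Submodule.mem_map_of_mem hw
  · intro hv
    refine ⟨LZ.symm v, ?_, LZ.apply_symm_apply v⟩
    have hv' : (v : κ → A) ∈ (Bd (a ∘ e)).map L.toLinearMap := by rw [hB]; exact hv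
    obtain ⟨w, hw, hwv⟩ := hv'
    show L.symm v.1 ∈ Bd (a ∘ e)
    rw [← hwv]
    simpa using hw

end Defs

variable [IsLocalRing A]

/-- Appending a redundant generator adds one to the first homology. -/
theorem h_option {ι : Type*} [Fintype ι] [DecidableEq ι] (a : ι → A) (ha : Ideal.span (Set.range a) = maximalIdeal A)
    (y : A) (hy : y ∈ maximalIdeal A) : h (fun o : Option ι => o.elim y a) = h a + 1 := by
  classical
  obtain ⟨c, hc⟩ := Ideal.mem_span_range_iff_exists_fun.1 (ha ▸ hy : y ∈ Ideal.span (Set.range a))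
  let a' : Option ι → A := fun o => o.elim y a
  let P : (Option ι → A) →ₗ[A] (ι → A) :=
    LinearMap.funLeft A A some + (LinearMap.proj (R := A) (φ := fun _ : Option ι => A) none).smulRight c
  have hP : ∀ v i, P v i = v (some i) + v none * c i := fun v i => rfl
  have hPZ : ∀ v ∈ Z a', P v ∈ Z a := fun v hv => by
    rw [mem_Z, Fintype.sum_option] at hv
    rw [mem_Z]
    simp only [hP, add_mul, Finset.sum_add_distrib, mul_assoc, ← Finset.mul_sum]
    rw [hc, add_comm]
    simpa [a'] using hv
  let ψ : Z a' →ₗ[A] H a × (A ⧸ maximalIdeal A) :=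
    LinearMap.prod ((Submodule.mkQ _).comp ((P.comp (Z a').subtype).codRestrict (Z a) fun v => hPZ v.1 v.2))
      ((Submodule.mkQ (maximalIdeal A)).comp ((LinearMap.proj (R := A) (φ := fun _ : Option ι => A) none).comp (Z a').subtype))
  have hψs : Function.Surjective ψ := by
    rintro ⟨w, t⟩
    obtain ⟨w, rfl⟩ := Submodule.mkQ_surjective _ w
    obtain ⟨t, rfl⟩ := Submodule.mkQ_surjective _ t
    let v : Option ι → A := fun o => o.elim t fun i => w.1 i - t * c i
    have hv : v ∈ Z a' := by
      rw [mem_Z, Fintype.sum_option]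
      have hw := mem_Z.1 w.2
      simp only [v, a', Option.elim, sub_mul, Finset.sum_sub_distrib, mul_assoc, ← Finset.mul_sum, hc, hw]
      ring
    refine ⟨⟨v, hv⟩, Prod.ext ?_ rfl⟩
    show Submodule.Quotient.mk _ = Submodule.Quotient.mk _
    congr 1
    exact Subtype.ext (funext fun i => show P v i = w.1 i by rw [hP]; exact sub_add_cancel _ _)
  let emb : (ι → A) →ₗ[A] (Option ι → A) :=
    LinearMap.pi fun o => o.elim 0 fun i => LinearMap.proj (R := A) (φ := fun _ : ι => A) i
  have hembs : ∀ i x, emb (Pi.single i x) = Pi.single (some i) x := fun i x => funext fun o => by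
    cases o with
    | none => simp [emb]
    | some j =>
      by_cases hj : j = i
      · subst hj; simp [emb]
      · simp [emb, Pi.single_apply, hj]
  have hker : LinearMap.ker ψ = (Bd a').comap (Z a').subtype := by
    ext ⟨v, hv⟩
    rw [LinearMap.mem_ker, Submodule.mem_comap]
    show ψ ⟨v, hv⟩ = 0 ↔ v ∈ Bd a'
    constructor
    · intro h0
      obtain ⟨h1', h2'⟩ := Prod.ext_iff.1 h0
      have h1 : P v ∈ Bd a := (Submodule.Quotient.mk_eq_zero ((Bd a).comap (Z a).subtype)).1 h1'
      have h2 : v none ∈ maximalIdeal A := (Submodule.Quotient.mk_eq_zero _).1 h2'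
      rw [← ha] at h2
      obtain ⟨u, hu⟩ := Ideal.mem_span_range_iff_exists_fun.1 h2
      let g : Option ι → A := ∑ i, u i • rel a' (some i, none)
      have hg : g ∈ Bd a' := Submodule.sum_mem _ fun i _ => Submodule.smul_mem _ _ (rel_mem a' _ _)
      have hgn : g none = v none := by
        rw [← hu]
        simp [g, rel, a']
      have hPg : P g ∈ Bd a := by
        rw [map_sum]
        refine Submodule.sum_mem _ fun i _ => ?_
        rw [map_smul]
        refine Submodule.smul_mem _ _ ?_
        have : P (rel a' (some i, none)) = ∑ j, c j • rel a (i, j) := by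
          funext k
          simp only [hP, rel, a', Pi.sub_apply, Finset.sum_apply, Pi.smul_apply, smul_eq_mul, mul_sub,
            Finset.sum_sub_distrib]
          have e1 : ∑ j, c j * (Pi.single j (a i) : ι → A) k = c k * a i := by
            rw [Finset.sum_eq_single k (fun j _ hj => by rw [Pi.single_eq_of_ne hj.symm, mul_zero]) (fun h => (h (Finset.mem_univ k)).elim), Pi.single_eq_same]
          have e2 : ∑ j, c j * (Pi.single i (a j) : ι → A) k = (Pi.single i y : ι → A) k := by
            by_cases hk : k = i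
            · subst hk; simp [hc]
            · simp [Pi.single_eq_of_ne hk]
          rw [e1, e2]
          by_cases hk : k = i
          · subst hk; simp; ring
          · simp [Pi.single_apply, hk]; ring
        rw [this]
        exact Submodule.sum_mem _ fun j _ => Submodule.smul_mem _ _ (rel_mem a _ _)
      have hr : P (v - g) ∈ Bd a := by rw [map_sub]; exact sub_mem h1 hPg
      have hveq : v - g = emb (P (v - g)) := funext fun o => by
        cases o with
        | none => simp [emb, hgn]
        | some i => simp [emb, hP, hgn]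
      have hmap : (Bd a).map emb ≤ Bd a' := by
        rw [Bd, Submodule.map_span, Submodule.span_le]
        rintro _ ⟨_, ⟨⟨i, j⟩, rfl⟩, rfl⟩
        rw [show emb (rel a (i, j)) = rel a' (some i, some j) by simp [rel, hembs, a']]
        exact rel_mem a' _ _
      have h3 := add_mem (hmap (Submodule.mem_map_of_mem hr)) hg
      rwa [← hveq, sub_add_cancel] at h3
    · intro hv'
      have hsub : Bd a' ≤ (Bd a).comap P ⊓
          Submodule.comap (LinearMap.proj (R := A) (φ := fun _ : Option ι => A) none) (maximalIdeal A) := by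
        rw [Bd, Submodule.span_le]
        rintro _ ⟨⟨o, o'⟩, rfl⟩
        have hm : ∀ o, a' o ∈ maximalIdeal A := fun o => by
          cases o with
          | none => exact hy
          | some i => exact ha ▸ Ideal.subset_span ⟨i, rfl⟩
        refine ⟨?_, ?_⟩
        · show P (rel a' (o, o')) ∈ Bd a
          have hsome : ∀ i j, P (rel a' (some i, some j)) = rel a (i, j) := fun i j => funext fun k => by
            simp [hP, rel, a', Pi.single_apply]
          have hnone : ∀ i, P (rel a' (some i, none)) ∈ Bd a := fun i => by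
            have : P (rel a' (some i, none)) = ∑ j, c j • rel a (i, j) := by
              funext k
              simp only [hP, rel, a', Pi.sub_apply, Finset.sum_apply, Pi.smul_apply, smul_eq_mul, mul_sub,
                Finset.sum_sub_distrib]
              have e1 : ∑ j, c j * (Pi.single j (a i) : ι → A) k = c k * a i := by
                rw [Finset.sum_eq_single k (fun j _ hj => by rw [Pi.single_eq_of_ne hj.symm, mul_zero]) (fun h => (h (Finset.mem_univ k)).elim), Pi.single_eq_same]
              have e2 : ∑ j, c j * (Pi.single i (a j) : ι → A) k = (Pi.single i y : ι → A) k := by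
                by_cases hk : k = i
                · subst hk; simp [hc]
                · simp [Pi.single_eq_of_ne hk]
              rw [e1, e2]
              by_cases hk : k = i
              · subst hk; simp; ring
              · simp [Pi.single_apply, hk]; ring
            rw [this]
            exact Submodule.sum_mem _ fun j _ => Submodule.smul_mem _ _ (rel_mem a _ _)
          rcases o with _ | i <;> rcases o' with _ | j
          · simp [rel]
          · rw [show rel a' (none, some j) = -rel a' (some j, none) by simp [rel], map_neg]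
            exact neg_mem (hnone j)
          · exact hnone i
          · rw [hsome]; exact rel_mem a i j
        · show rel a' (o, o') none ∈ maximalIdeal A
          simp only [rel, Pi.sub_apply]
          refine sub_mem ?_ ?_ <;> · rw [Pi.single_apply]; split_ifs <;> first | exact hm _ | exact zero_mem _
      exact Prod.ext ((Submodule.Quotient.mk_eq_zero ((Bd a).comap (Z a).subtype)).2 (hsub hv').1) ((Submodule.Quotient.mk_eq_zero _).2 (hsub hv').2)
  have e : H a' ≃ₗ[A] H a × (A ⧸ maximalIdeal A) :=
    (Submodule.quotEquivOfEq _ _ hker.symm).trans (ψ.quotKerEquivOfSurjective hψs)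
  show Module.length A (H a') = _
  rw [e.length_eq, Module.length_prod]
  congr 1
  haveI : IsSimpleModule A (A ⧸ maximalIdeal A) :=
    isSimpleModule_iff_isCoatom.2 (Ideal.isMaximal_def.1 (maximalIdeal.isMaximal A))
  exact Module.length_eq_one A _

/-- Appending redundant generators. -/
theorem h_sum {ι : Type*} [Fintype ι] [DecidableEq ι] (a : ι → A) (ha : Ideal.span (Set.range a) = maximalIdeal A) :
    ∀ (n : ℕ) (b : Fin n → A), (∀ i, b i ∈ maximalIdeal A) → h (Sum.elim a b) = h a + n := by
  intro n
  induction n with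
  | zero =>
    intro b _
    rw [Nat.cast_zero, add_zero, ← h_congr (Equiv.sumEmpty ι (Fin 0)) a]
    congr 1
    funext s
    rcases s with i | i
    · rfl
    · exact i.elim0
  | succ n ih =>
    intro b hb
    let e : ι ⊕ Fin (n + 1) ≃ Option (ι ⊕ Fin n) :=
      { toFun := Sum.elim (fun i => some (Sum.inl i)) (Fin.lastCases none fun j => some (Sum.inr j))
        invFun := fun o => o.elim (Sum.inr (Fin.last n)) (Sum.map id Fin.castSucc)
        left_inv := fun s => by
          rcases s with i | i
          · rfl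
          · refine Fin.lastCases ?_ (fun j => ?_) i <;> simp
        right_inv := fun o => by rcases o with _ | i | i <;> simp }
    have hfun : Sum.elim a b = (fun o : Option (ι ⊕ Fin n) => o.elim (b (Fin.last n)) (Sum.elim a (b ∘ Fin.castSucc))) ∘ e := by
      funext s
      rcases s with i | i
      · rfl
      · refine Fin.lastCases ?_ (fun j => ?_) i <;> simp [e]
    have hsp : Ideal.span (Set.range (Sum.elim a (b ∘ Fin.castSucc))) = maximalIdeal A := by
      rw [Set.Sum.elim_range, Ideal.span_union, ha, sup_eq_left, Ideal.span_le]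
      rintro _ ⟨j, rfl⟩
      exact hb _
    rw [hfun, h_congr, h_option _ hsp _ (hb _), ih (b ∘ Fin.castSucc) fun j => hb _, Nat.cast_succ, add_assoc]

/-- `h a - |a|` does not depend on the generators. -/
theorem h_add_card {d d' : ℕ} (a : Fin d → A) (a' : Fin d' → A) (ha : Ideal.span (Set.range a) = maximalIdeal A)
    (ha' : Ideal.span (Set.range a') = maximalIdeal A) : h a + d' = h a' + d := by
  rw [← h_sum a ha d' a' fun i => ha' ▸ Ideal.subset_span ⟨i, rfl⟩,
    ← h_sum a' ha' d a fun i => ha ▸ Ideal.subset_span ⟨i, rfl⟩, ← h_congr (Equiv.sumComm (Fin d) (Fin d')) (Sum.elim a' a)]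
  congr 1
  funext s
  rcases s with i | i <;> rfl

section Regular

variable {B : Type u} [CommRing B]

/-- Relations of a regular sequence are Koszul. -/
theorem Z_le_Bd : ∀ (n : ℕ) (b : Fin n → B),
    (∀ k : Fin n, IsSMulRegular (B ⧸ Ideal.span (b '' {j | j < k})) (b k)) → Z b ≤ Bd b := by
  intro n
  induction n with
  | zero =>
    intro b _ v _
    have hv0 : v = 0 := funext fun i => i.elim0
    rw [hv0]
    exact zero_mem _
  | succ n ih =>
    intro b hreg v hv
    have hset : b '' {j | j < Fin.last n} = Set.range (b ∘ Fin.castSucc) := by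
      rw [Set.range_comp]
      congr 1
      ext j
      refine Fin.lastCases ?_ (fun i => ?_) j
      · exact ⟨fun h => (lt_irrefl (Fin.last n) h).elim, fun ⟨i, hi⟩ => (Fin.castSucc_lt_last i).ne hi |>.elim⟩
      · exact ⟨fun _ => ⟨i, rfl⟩, fun _ => Fin.castSucc_lt_last i⟩
    have hlast : v (Fin.last n) ∈ Ideal.span (Set.range (b ∘ Fin.castSucc)) := by
      rw [← hset, ← Ideal.Quotient.eq_zero_iff_mem]
      refine hreg (Fin.last n) ?_
      show b (Fin.last n) • _ = b (Fin.last n) • 0
      rw [smul_zero, Algebra.smul_def, Ideal.Quotient.algebraMap_eq, ← map_mul, Ideal.Quotient.eq_zero_iff_mem, hset]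
      have h1 := mem_Z.1 hv
      rw [Fin.sum_univ_castSucc, add_comm, add_eq_zero_iff_eq_neg] at h1
      rw [mul_comm, h1]
      exact neg_mem (Ideal.sum_mem _ fun i _ => Ideal.mul_mem_left _ _ (Ideal.subset_span ⟨i, rfl⟩))
    obtain ⟨u, hu⟩ := Ideal.mem_span_range_iff_exists_fun.1 hlast
    let g : Fin (n + 1) → B := ∑ i, u i • rel b (i.castSucc, Fin.last n)
    have hg : g ∈ Bd b := Submodule.sum_mem _ fun i _ => Submodule.smul_mem _ _ (rel_mem b _ _)
    have hgl : g (Fin.last n) = v (Fin.last n) := by
      rw [← hu]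
      simp [g, rel, (Fin.castSucc_lt_last _).ne']
    have hw : (v - g) ∘ Fin.castSucc ∈ Z (b ∘ Fin.castSucc) := by
      have h1 := mem_Z.1 (sub_mem hv (Bd_le_Z b hg))
      rw [Fin.sum_univ_castSucc, Pi.sub_apply v g (Fin.last n), hgl, sub_self, zero_mul, add_zero] at h1
      rw [mem_Z]
      exact h1
    have hreg' : ∀ k : Fin n, IsSMulRegular (B ⧸ Ideal.span ((b ∘ Fin.castSucc) '' {j | j < k})) ((b ∘ Fin.castSucc) k) := by
      intro k
      have hk := hreg k.castSucc
      rwa [show b '' {j | j < k.castSucc} = (b ∘ Fin.castSucc) '' {j | j < k} by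
        rw [Set.image_comp]
        congr 1
        ext j
        refine Fin.lastCases ?_ (fun i => ?_) j
        · exact ⟨fun h => (not_lt.2 (Fin.le_last _) h).elim, fun ⟨i, _, hi⟩ => ((Fin.castSucc_lt_last i).ne hi).elim⟩
        · exact ⟨fun h => ⟨i, Fin.castSucc_lt_castSucc_iff.1 h, rfl⟩,
            fun ⟨i', hi', he⟩ => Fin.castSucc_injective _ he ▸ Fin.castSucc_lt_castSucc_iff.2 hi'⟩] at hk
    let emb : (Fin n → B) →ₗ[B] (Fin (n + 1) → B) :=
      LinearMap.pi (Fin.lastCases 0 fun i => LinearMap.proj (R := B) (φ := fun _ : Fin n => B) i)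
    have hembs : ∀ i x, emb (Pi.single i x) = Pi.single i.castSucc x := fun i x => funext fun o => by
      refine Fin.lastCases ?_ (fun j => ?_) o
      · simp [emb, Pi.single_eq_of_ne (Fin.castSucc_lt_last i).ne']
      · by_cases hj : j = i
        · subst hj; simp [emb]
        · simp [emb, Pi.single_eq_of_ne hj, Pi.single_eq_of_ne (fun he => hj (Fin.castSucc_injective _ he))]
    have hmap : (Bd (b ∘ Fin.castSucc)).map emb ≤ Bd b := by
      rw [Bd, Submodule.map_span, Submodule.span_le]
      rintro _ ⟨_, ⟨⟨i, j⟩, rfl⟩, rfl⟩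
      rw [show emb (rel (b ∘ Fin.castSucc) (i, j)) = rel b (i.castSucc, j.castSucc) by simp [rel, hembs]]
      exact rel_mem b _ _
    have hveq : v - g = emb ((v - g) ∘ Fin.castSucc) := funext fun o => by
      refine Fin.lastCases ?_ (fun i => ?_) o
      · simp [emb, hgl]
      · simp [emb]
    have h3 := add_mem (hmap (Submodule.mem_map_of_mem (ih _ hreg' hw))) hg
    rwa [← hveq, sub_add_cancel] at h3

variable [Algebra B A]

theorem h_eq_spanFinrank [IsRegularLocalRing B] (hsurj : Function.Surjective (algebraMap B A)) {d : ℕ}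
    (hd : ringKrullDim B = d) :
    ∃ a : Fin d → A, Ideal.span (Set.range a) = maximalIdeal A ∧
      h a = ((RingHom.ker (algebraMap B A)).spanFinrank : ℕ∞) := by
  classical
  let I := RingHom.ker (algebraMap B A)
  obtain ⟨t, ht, htm⟩ := Submodule.FG.exists_span_finset_card_eq_spanFinrank (IsNoetherian.noetherian (maximalIdeal B))
  have hcard : t.card = d := by
    have := IsRegularLocalRing.spanFinrank_maximalIdeal (R := B)
    rw [hd, ← ht] at this
    exact_mod_cast this
  let e : Fin d ≃ t := (Fin.castOrderIso hcard.symm).toEquiv.trans t.equivFin.symm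
  let b : Fin d → B := fun i => (e i).1
  have hb : Ideal.span (Set.range b) = maximalIdeal B := by
    rw [← htm]
    refine congrArg _ (Set.ext fun x => ⟨?_, fun hx => ⟨e.symm ⟨x, hx⟩, by show (e (e.symm _)).1 = x; rw [Equiv.apply_symm_apply]⟩⟩)
    rintro ⟨i, rfl⟩
    exact (e i).2
  have hbm : ∀ i, b i ∈ maximalIdeal B := fun i => hb ▸ Ideal.subset_span ⟨i, rfl⟩
  have hreg : ∀ k : Fin d, IsSMulRegular (B ⧸ Ideal.span (b '' {j | j < k})) (b k) := by
    intro k
    have hlist : Ideal.ofList (List.ofFn b) = maximalIdeal B := by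
      rw [Ideal.ofList, ← hb]; congr 1; ext r; simp [List.mem_ofFn]
    letI := Ideal.Quotient.field (maximalIdeal B)
    have h1 : RingTheory.Sequence.IsRegular B (List.ofFn b) :=
      CommAlgDim.isRegular_of_dim (CommAlgDim.isCM_of_isRegularLocalRing B)
        (fun r hr => by obtain ⟨i, rfl⟩ := List.mem_ofFn.1 hr; exact hbm i)
        (by rw [hlist, ringKrullDim_eq_zero_of_field, List.length_ofFn, zero_add, hd])
    have h2 := h1.toIsWeaklyRegular.regular_mod_prev k (by rw [List.length_ofFn]; exact k.2)
    have htake : Ideal.ofList ((List.ofFn b).take k) = Ideal.span (b '' {j | j < k}) := by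
      refine congrArg Ideal.span (Set.ext fun r => ?_)
      simp only [Set.mem_setOf_eq, List.mem_take_iff_getElem, List.getElem_ofFn, List.length_ofFn, Set.mem_image]
      constructor
      · rintro ⟨i, hi, rfl⟩; exact ⟨⟨i, by omega⟩, show i < (k : ℕ) by omega, rfl⟩
      · rintro ⟨j, hj, rfl⟩; exact ⟨j, by have h3 : (j : ℕ) < k := hj; have h4 := j.2; omega, rfl⟩
    rw [htake, smul_eq_mul, Ideal.mul_top] at h2
    simpa using h2
  let a : Fin d → A := fun i => algebraMap B A (b i)
  haveI : IsLocalHom (algebraMap B A) := IsLocalHom.of_surjective _ hsurj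
  have hAm : (maximalIdeal B).map (algebraMap B A) = maximalIdeal A := by
    refine IsLocalRing.eq_maximalIdeal ((Ideal.map_eq_top_or_isMaximal_of_surjective _ hsurj (maximalIdeal.isMaximal B)).resolve_left ?_)
    exact ne_top_of_le_ne_top (maximalIdeal.isMaximal A).ne_top (Ideal.map_le_iff_le_comap.2 fun x hx => map_nonunit (algebraMap B A) x hx)
  have ha : Ideal.span (Set.range a) = maximalIdeal A := by
    rw [← hAm, ← hb, Ideal.map_span, ← Set.range_comp]
    rfl
  refine ⟨a, ha, ?_⟩
  let Φ : (Fin d → B) →ₗ[B] (Fin d → A) :=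
    LinearMap.pi fun i => (Algebra.linearMap B A).comp (LinearMap.proj (R := B) (φ := fun _ : Fin d => B) i)
  let σ : (Fin d → B) →ₗ[B] B := Fintype.linearCombination B b
  have hσ : ∀ v, σ v = ∑ i, v i * b i := fun v => by simp [σ, Fintype.linearCombination_apply]
  have hσr : LinearMap.range σ = maximalIdeal B := by
    rw [← hb, Fintype.range_linearCombination]
  have hΦr : ∀ i j, Φ (rel b (i, j)) = rel a (i, j) := fun i j => funext fun k => by
    simp [Φ, rel, a, Pi.single_apply, apply_ite (algebraMap B A)]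
  have hΦB : (Bd b).map Φ ≤ (Bd a).restrictScalars B := by
    rw [Bd, Submodule.map_span, Submodule.span_le]
    rintro _ ⟨_, ⟨⟨i, j⟩, rfl⟩, rfl⟩
    rw [SetLike.mem_coe, Submodule.restrictScalars_mem, hΦr]
    exact rel_mem a i j
  let M : Submodule B (Fin d → B) := Submodule.comap σ I
  have hΦZ : ∀ v : M, Φ v ∈ Z a := fun v => by
    have hv : algebraMap B A (σ v) = 0 := v.2
    rw [hσ, map_sum] at hv
    rw [mem_Z, ← hv]
    exact Finset.sum_congr rfl fun i _ => by simp [Φ, a]
  let ψ : M →ₗ[B] H a :=
    ((Submodule.mkQ _).restrictScalars B).comp ((Φ.comp M.subtype).codRestrict ((Z a).restrictScalars B) hΦZ)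
  let σ' : M →ₗ[B] I := (σ.comp M.subtype).codRestrict I fun v => v.2
  have hσ's : Function.Surjective σ' := fun ⟨r, hr⟩ => by
    have hrm : r ∈ LinearMap.range σ := hσr ▸ le_maximalIdeal (RingHom.ker_ne_top _) hr
    obtain ⟨v, hv⟩ := hrm
    exact ⟨⟨v, show σ v ∈ I by rw [hv]; exact hr⟩, Subtype.ext hv⟩
  have hψs : Function.Surjective ψ := fun z => by
    obtain ⟨⟨w, hw⟩, rfl⟩ := Submodule.Quotient.mk_surjective _ z
    choose v hv using fun i => hsurj (w i)
    have hvM : v ∈ M := by
      show algebraMap B A (σ v) = 0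
      rw [hσ, map_sum]
      rw [mem_Z] at hw
      rw [← hw]
      exact Finset.sum_congr rfl fun i _ => by rw [map_mul, hv]
    refine ⟨⟨v, hvM⟩, ?_⟩
    show Submodule.Quotient.mk _ = Submodule.Quotient.mk _
    congr 1
    exact Subtype.ext (funext hv)
  have hlift : ∀ w ∈ Bd a, ∃ u ∈ Bd b, Φ u = w := by
    intro w hw
    induction hw using Submodule.span_induction with
    | mem w hw =>
      obtain ⟨⟨i, j⟩, rfl⟩ := hw
      exact ⟨_, rel_mem b i j, hΦr i j⟩
    | zero => exact ⟨0, zero_mem _, map_zero _⟩
    | add x y _ _ hx hy =>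
      obtain ⟨u, hu, rfl⟩ := hx
      obtain ⟨u', hu', rfl⟩ := hy
      exact ⟨u + u', add_mem hu hu', map_add _ _ _⟩
    | smul c x _ hx =>
      obtain ⟨u, hu, rfl⟩ := hx
      obtain ⟨c, rfl⟩ := hsurj c
      exact ⟨c • u, Submodule.smul_mem _ _ hu, by rw [map_smul, algebraMap_smul]⟩
  have hker : LinearMap.ker ψ = (maximalIdeal B • (⊤ : Submodule B I)).comap σ' := by
    ext ⟨v, hv⟩
    rw [LinearMap.mem_ker, Submodule.mem_comap, Submodule.mem_smul_top_iff]
    show (Submodule.Quotient.mk _ : H a) = 0 ↔ σ v ∈ maximalIdeal B • I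
    rw [Submodule.Quotient.mk_eq_zero]
    show Φ v ∈ Bd a ↔ _
    constructor
    · intro hb'
      obtain ⟨u, hu, huv⟩ := hlift _ hb'
      have hσu : σ u = 0 := by rw [hσ]; exact mem_Z.1 (Bd_le_Z b hu)
      rw [show σ v = σ (v - u) by rw [map_sub, hσu, sub_zero], hσ]
      refine Submodule.sum_mem _ fun i _ => ?_
      rw [mul_comm, smul_eq_mul]
      refine Ideal.mul_mem_mul (hbm i) ?_
      have := congrFun huv i
      show algebraMap B A (v i - u i) = 0
      rw [map_sub, sub_eq_zero]
      exact this.symm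
    · intro hm
      obtain ⟨c, hc, hcv⟩ : ∃ c : Fin d → B, (∀ i, c i ∈ I) ∧ σ c = σ v := by
        suffices ∀ r ∈ maximalIdeal B • I, ∃ c : Fin d → B, (∀ i, c i ∈ I) ∧ σ c = r from this _ hm
        intro r hr
        rw [← hb, smul_eq_mul] at hr
        refine Submodule.mul_induction_on hr (fun x hx y hy => ?_) (fun x y hx hy => ?_)
        ·
          obtain ⟨u, rfl⟩ := Ideal.mem_span_range_iff_exists_fun.1 hx
          refine ⟨fun i => u i * y, fun i => Ideal.mul_mem_left _ _ hy, ?_⟩
          rw [hσ, Finset.sum_mul]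
          exact Finset.sum_congr rfl fun i _ => by ring
        · obtain ⟨u, hu, rfl⟩ := hx
          obtain ⟨u', hu', rfl⟩ := hy
          exact ⟨u + u', fun i => add_mem (hu i) (hu' i), map_add _ _ _⟩
      have hz : v - c ∈ Z b := by
        rw [mem_Z, ← hσ, map_sub, hcv, sub_self]
      have h1 : Φ (v - c) ∈ Bd a := hΦB (Submodule.mem_map_of_mem (Z_le_Bd d b hreg hz))
      have h2 : Φ c = 0 := funext fun i => hc i
      rwa [map_sub, h2, sub_zero] at h1
  let π : M →ₗ[B] (I ⧸ maximalIdeal B • (⊤ : Submodule B I)) := (Submodule.mkQ _).comp σ'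
  have hπ : LinearMap.ker ψ = LinearMap.ker π := by
    rw [hker, LinearMap.ker_comp, Submodule.ker_mkQ]
  let E : H a ≃ₗ[B] (I ⧸ maximalIdeal B • (⊤ : Submodule B I)) :=
    (ψ.quotKerEquivOfSurjective hψs).symm.trans ((Submodule.quotEquivOfEq _ _ hπ).trans
      (π.quotKerEquivOfSurjective ((Submodule.mkQ_surjective _).comp hσ's)))
  show Module.length A (H a) = _
  rw [← Module.length_eq_of_surjective (R := A) (S := B) (M := H a) hsurj, E.length_eq]
  letI : Field (B ⧸ maximalIdeal B) := Ideal.Quotient.field _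
  haveI : Module.Finite (B ⧸ maximalIdeal B) (I ⧸ maximalIdeal B • (⊤ : Submodule B I)) :=
    Module.Finite.of_restrictScalars_finite B _ _
  rw [Module.length_eq_of_surjective (R := B ⧸ maximalIdeal B) (S := B) Ideal.Quotient.mk_surjective,
    Module.length_eq_finrank, IsLocalRing.spanFinrank_eq_finrank_quotient _ (IsNoetherian.noetherian _)]

end Regular

end KoszulH1Lib
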