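import Groth.Agent.KoszulH1Lib.Basic
import Groth.Agent.InjHullLib.FlatLocal
import Groth.Agent.DualCxLib.LocDuality

/-!
# First Koszul homology along flat maps with trivial closed fibre
-/

set_option backward.isDefEq.respectTransparency false
set_option backward.isDefEq.respectTransparency.types false

universe u

open IsLocalRing TensorProduct

namespace KoszulH1Lib

variable {A : Type u} [CommRing A] {A' : Type u} [CommRing A'] [Algebra A A']
variable {ι : Type} [Fintype ι] [DecidableEq ι]

/-- The Koszul relations annihilate the first homology. -/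
theorem smul_mem_Bd (a : ι → A) (j : ι) {v : ι → A} (hv : v ∈ Z a) : a j • v ∈ Bd a := by
  rw [mem_Z] at hv
  have h : a j • v = ∑ i, v i • rel a (j, i) := by
    simp only [rel, smul_sub, ← Pi.single_smul', smul_eq_mul, Finset.sum_sub_distrib]
    funext k
    simp only [Pi.sub_apply, Finset.sum_apply, Pi.smul_apply, smul_eq_mul, Finset.sum_pi_single', Finset.mem_univ, if_true]
    rcases eq_or_ne k j with rfl | hk
    · have hv' : ∑ x, a x * v x = 0 := by rw [← hv]; exact Finset.sum_congr rfl fun x _ => mul_comm _ _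
      simp [hv', mul_comm]
    · simp [hk, mul_comm]
  rw [h]
  exact sum_mem fun i _ => Submodule.smul_mem _ _ (rel_mem a j i)

/-- Quotients commute with base change. -/
theorem baseChange_quotient {M : Type u} [AddCommGroup M] [Module A M] {M' : Type u} [AddCommGroup M'] [Module A' M']
    (N : Submodule A M) (N' : Submodule A' M') (ψ : A' ⊗[A] M →ₗ[A'] M') (hψ : Function.Bijective ψ)
    (h1 : ∀ x ∈ N, ψ (1 ⊗ₜ x) ∈ N') (h2 : N' ≤ Submodule.span A' ((fun x => ψ (1 ⊗ₜ x)) '' (N : Set M))) :
    Nonempty (A' ⊗[A] (M ⧸ N) ≃ₗ[A'] M' ⧸ N') := by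
  let Φ : A' ⊗[A] M →ₗ[A'] A' ⊗[A] (M ⧸ N) := N.mkQ.baseChange A'
  let Ψ : A' ⊗[A] M →ₗ[A'] M' ⧸ N' := N'.mkQ ∘ₗ ψ
  have hΦsurj : Function.Surjective Φ := LinearMap.lTensor_surjective A' (Submodule.mkQ_surjective N)
  have hΨsurj : Function.Surjective Ψ := (Submodule.mkQ_surjective _).comp hψ.2
  have hexN : Function.Exact (N.subtype.lTensor A') (N.mkQ.lTensor A') :=
    lTensor_exact A' (LinearMap.exact_subtype_mkQ N) (Submodule.mkQ_surjective N)
  have hker : LinearMap.ker Φ = LinearMap.ker Ψ := by
    ext w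
    rw [LinearMap.mem_ker, LinearMap.mem_ker]
    show Φ w = 0 ↔ N'.mkQ (ψ w) = 0
    rw [Submodule.mkQ_apply, Submodule.Quotient.mk_eq_zero]
    constructor
    · intro hw
      obtain ⟨u, rfl⟩ := (hexN w).1 hw
      clear hw
      induction u using TensorProduct.induction_on with
      | zero => simp
      | add x y hx hy => simpa only [map_add] using add_mem hx hy
      | tmul b x =>
        rw [LinearMap.lTensor_tmul, show b ⊗ₜ[A] N.subtype x = b • ((1 : A') ⊗ₜ[A] (x : M)) by
          rw [TensorProduct.smul_tmul', smul_eq_mul, mul_one]; rfl, map_smul]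
        exact N'.smul_mem _ (h1 _ x.2)
    · intro hw
      obtain ⟨u, hu, huw⟩ : ψ w ∈ (LinearMap.ker Φ).map ψ := by
        refine (h2.trans (Submodule.span_le.2 ?_)) hw
        rintro _ ⟨x, hx, rfl⟩
        refine ⟨1 ⊗ₜ x, ?_, rfl⟩
        show Φ (1 ⊗ₜ x) = 0
        simp [Φ, LinearMap.baseChange_tmul, (Submodule.Quotient.mk_eq_zero N).2 hx]
      exact hψ.1 huw ▸ hu
  exact ⟨(LinearMap.quotKerEquivOfSurjective Φ hΦsurj).symm.trans
    ((Submodule.quotEquivOfEq _ _ hker).trans (LinearMap.quotKerEquivOfSurjective Ψ hΨsurj))⟩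

variable [IsLocalRing A] [IsNoetherianRing A] [IsLocalRing A'] [IsNoetherianRing A'] [Module.Flat A A']

theorem h_map (hm : (maximalIdeal A).map (algebraMap A A') = maximalIdeal A') (a : ι → A)
    (ha : Ideal.span (Set.range a) = maximalIdeal A) : h (algebraMap A A' ∘ a) = h a := by
  classical
  set f := algebraMap A A'
  set a' := f ∘ a
  let lc := Fintype.linearCombination A a
  let F : (ι → A) →ₗ[A] (ι → A') := (Algebra.linearMap A A').compLeft ι
  have hF : ∀ (v : ι → A) i, F v i = f (v i) := fun v i => rfl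
  have hFr : ∀ p, F (rel a p) = rel a' p := fun ⟨i, j⟩ => by
    funext k
    simp [hF, rel, Pi.single_apply, apply_ite f, a']
  have hFZ : ∀ v ∈ Z a, F v ∈ Z a' := fun v hv => by
    rw [mem_Z] at hv ⊢
    show ∑ i, f (v i) * f (a i) = 0
    simp only [← map_mul, ← map_sum, hv, map_zero]
  let φ : Z a →ₗ[A] Z a' :=
    (F.comp (Z a).subtype).codRestrict ((Z a').restrictScalars A) fun v => hFZ v v.2
  let ψ : A' ⊗[A] Z a →ₗ[A'] Z a' := φ.liftBaseChange A'
  have hψ : ∀ (b : A') (v : Z a) i, (ψ (b ⊗ₜ v) : ι → A') i = b * f ((v : ι → A) i) := fun b v i => by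
    simp only [ψ, LinearMap.liftBaseChange_tmul, Submodule.coe_smul, Pi.smul_apply, smul_eq_mul]
    rfl
  let P : A' ⊗[A] (ι → A) ≃ₗ[A'] (ι → A') := piScalarRight A A' A' ι
  have hP : ∀ (b : A') (v : ι → A) i, P (b ⊗ₜ v) i = b * f (v i) := fun b v i => by
    simp [P, Algebra.smul_def, mul_comm, f]
  let S : A' ⊗[A] Z a →ₗ[A] A' ⊗[A] (ι → A) := (Z a).subtype.lTensor A'
  have hPS : ∀ w, P (S w) = (ψ w : ι → A') := fun w => by
    induction w using TensorProduct.induction_on with
    | zero => simp
    | add x y hx hy => simp only [map_add, Submodule.coe_add, hx, hy]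
    | tmul b v =>
      funext i
      rw [hψ]
      exact hP b _ i
  have hψinj : Function.Injective ψ := fun x y hxy => by
    apply Module.Flat.lTensor_preserves_injective_linearMap (M := A') (Z a).subtype (Submodule.injective_subtype _)
    apply P.injective
    show P (S x) = P (S y)
    rw [hPS, hPS, hxy]
  have hψsurj : Function.Surjective ψ := fun z => by
    have hex := Module.Flat.lTensor_exact A' (LinearMap.exact_subtype_ker_map lc)
    have hlc : ∀ w : A' ⊗[A] (ι → A), TensorProduct.rid A A' (lc.lTensor A' w) = ∑ i, P w i * a' i := fun w => by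
      induction w using TensorProduct.induction_on with
      | zero => simp
      | add x y hx hy => simp only [map_add, hx, hy, Pi.add_apply, add_mul, Finset.sum_add_distrib]
      | tmul b v =>
        simp only [LinearMap.lTensor_tmul, TensorProduct.rid_tmul, lc, Fintype.linearCombination_apply,
          Algebra.smul_def, map_sum, Finset.sum_mul, hP, a', Function.comp_apply]
        exact Finset.sum_congr rfl fun i _ => by
          show f (v i * a i) * b = _
          rw [map_mul]; ring
    have h0 : lc.lTensor A' (P.symm z) = 0 := by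
      apply (TensorProduct.rid A A').injective
      rw [hlc, map_zero, LinearEquiv.apply_symm_apply]
      exact mem_Z.1 z.2
    obtain ⟨w, hw⟩ := (hex _).1 h0
    refine ⟨w, Subtype.ext ?_⟩
    rw [← hPS]
    show P ((Z a).subtype.lTensor A' w) = _
    exact (congrArg P hw).trans (LinearEquiv.apply_symm_apply P _)
  obtain ⟨e⟩ : Nonempty (A' ⊗[A] H a ≃ₗ[A'] H a') := by
    refine baseChange_quotient _ _ ψ ⟨hψinj, hψsurj⟩ (fun x hx => ?_) ?_
    · rw [Submodule.mem_comap]
      show (ψ (1 ⊗ₜ x) : ι → A') ∈ Bd a'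
      have h1 : (ψ (1 ⊗ₜ x) : ι → A') = F x.1 := by funext i; rw [hψ, one_mul]; rfl
      rw [h1]
      rw [Submodule.mem_comap, Submodule.subtype_apply] at hx
      generalize (x : ι → A) = y at hx ⊢
      induction hx using Submodule.span_induction with
      | mem v hv => obtain ⟨p, rfl⟩ := hv; rw [hFr]; exact Submodule.subset_span ⟨p, rfl⟩
      | zero => simp
      | add x y _ _ hx hy => rw [map_add]; exact add_mem hx hy
      | smul c x _ hx => rw [map_smul]; exact Submodule.smul_of_tower_mem _ c hx
    · intro z hz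
      rw [Submodule.mem_comap, Submodule.subtype_apply] at hz
      have h1 : Bd a' ≤ (Submodule.span A' ((fun x => ψ (1 ⊗ₜ x)) ''
          ((Bd a).comap (Z a).subtype : Set (Z a)))).map (Z a').subtype := by
        rw [Bd, Submodule.span_le]
        rintro _ ⟨p, rfl⟩
        let r : Z a := ⟨rel a p, Bd_le_Z a (Submodule.subset_span ⟨p, rfl⟩)⟩
        refine ⟨ψ (1 ⊗ₜ r), Submodule.subset_span ⟨r, Submodule.subset_span ⟨p, rfl⟩, rfl⟩, ?_⟩
        rw [← hFr]
        funext i
        exact (hψ 1 r i).trans (by rw [one_mul]; rfl)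
      obtain ⟨u, hu, huz⟩ := h1 hz
      have : u = z := Subtype.ext huz
      exact this ▸ hu
  have hfl : IsFiniteLength A (H a) := by
    refine Groth.Agent.DualCxLib.isFiniteLength_of_pow_kill (H a) (k := 1) fun c hc x => ?_
    obtain ⟨v, rfl⟩ := Submodule.Quotient.mk_surjective _ x
    rw [pow_one, ← ha] at hc
    rw [← Submodule.Quotient.mk_smul, Submodule.Quotient.mk_eq_zero, Submodule.mem_comap]
    show c • (v : ι → A) ∈ Bd a
    induction hc using Submodule.span_induction with
    | mem c hc => obtain ⟨j, rfl⟩ := hc; exact smul_mem_Bd a j v.2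
    | zero => simp
    | add x y _ _ hx hy => rw [add_smul]; exact add_mem hx hy
    | smul r x _ hx => rw [smul_eq_mul, mul_smul]; exact Submodule.smul_mem _ _ hx
  unfold h
  rw [← e.length_eq, InjHullLib.length_tensor hfl, hm]
  have h1 : Module.length A' (A' ⧸ maximalIdeal A') = 1 :=
    Module.length_eq_one_iff.2 ((isSimpleModule_iff_isCoatom).2 (maximalIdeal.isMaximal A').out)
  rw [h1, mul_one]

end KoszulH1Lib
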